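import Groth.Agent.Lefpen.H61.T4Phi
import Groth.Agent.Lefpen.H121.CurveForm
import Groth.Prelude.Def_Twist2

/-!
# Dictionary between `Y = V(G) ⊆ P^N` and the homogeneous fractions of its cone, part 2

* `exists_pow_mul`: rational functions regular at all points of a basic open of a chart.
* `hasCoc_twist`: the Cartier cocycle of `O_Y(e)` is `(T_α/T_0)^e`.
-/

set_option autoImplicit false
universe u
open CategoryTheory CategoryTheory.Limits AlgebraicGeometry TopologicalSpace Opposite MvPolynomial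
open LefPen

namespace Groth.Agent.Lefpen.H61.T4Coc

open Groth.Agent.Lefpen.H718.Reg Groth.Agent.Lefpen.H718.ConeCM Groth.Agent.Lefpen.H718.Grade
open Groth.Agent.Lefpen.H718.Chart Groth.Agent.Lefpen.H725.CocDef
open Groth.Agent.Lefpen.H121.ChartLift Groth.Agent.Fdesc.LocGen Groth.Agent.Sga5
open Groth.Agent.Lefpen.H61.T4Phi

section ff

variable {X : Scheme.{u}} [IsIntegral X]

/-- A rational function regular at all points of `V` is a function on `V`. -/
theorem exists_of_regAt {V : X.Opens} (hV : genericPoint X ∈ V) (c : X.functionField)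
    (h : ∀ x ∈ V, RegAt x c) : ∃ t : Γ(X, V), ff V hV t = c := by
  choose U hxU hηU g hg using h
  obtain ⟨t, ht⟩ := ores_glue (V := V) (fun x : V => V ⊓ U x.1 x.2) (fun x => inf_le_left)
    (fun x hx => Opens.mem_iSup.2 ⟨⟨x, hx⟩, ⟨hx, hxU x hx⟩⟩)
    (fun x => ores inf_le_right (g x.1 x.2)) (fun x y => ores_eq_of_ff (U := V ⊓ U x.1 x.2) (V := V ⊓ U y.1 y.2)
      ⟨hV, hηU _ _⟩ ⟨hV, hηU _ _⟩ (by rw [ff_ores, ff_ores, hg, hg]))
  refine ⟨t, ?_⟩
  have h1 := congrArg (ff (V ⊓ U _ hV) ⟨hV, hηU _ hV⟩) (ht ⟨_, hV⟩)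
  rw [ff_ores, ff_ores, hg] at h1
  exact h1

theorem exists_pow_mul' {U : X.Opens} (hU : IsAffineOpen U) (hη : genericPoint X ∈ U) (w : Γ(X, U))
    (c : X.functionField) (h : ∀ x ∈ U, UnitAt x (ff U hη w) → RegAt x c) :
    ∃ (n : ℕ) (b : Γ(X, U)), ff U hη b = ff U hη w ^ n * c := by
  by_cases hw : ff U hη w = 0
  · exact ⟨1, 0, by rw [hw, map_zero, pow_one, zero_mul]⟩
  have hηw : genericPoint X ∈ X.basicOpen w := by
    rw [Scheme.mem_basicOpen X w _ hη, isUnit_iff_ne_zero]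
    exact hw
  obtain ⟨t, ht⟩ := exists_of_regAt hηw c fun x hx => h x (X.basicOpen_le w hx)
    ((unitAt_ff_iff hη w (X.basicOpen_le w hx)).2 hx)
  obtain ⟨n, b, hb⟩ := exists_eq_pow_mul_of_isAffineOpen X U hU w t
  have hb' : ores (X.basicOpen_le w) b = ores (X.basicOpen_le w) w ^ n * t := hb
  refine ⟨n, b, ?_⟩
  have h1 := congrArg (ff (X.basicOpen w) hηw) hb'
  rw [map_mul, map_pow, ff_ores, ff_ores, ht] at h1
  exact h1

end ff

variable {K : Type u} [Field K] {N d : ℕ} {a : Fin d → ℕ} (G : ∀ j : Fin d, Form N K (a j))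
variable [IsIntegral (Y G)] (hdom : IsDomain (A (eqn G))) (hx : ∀ i, mk (eqn G) (X i) ≠ 0)

/-- functions regular at all points of a basic open of a chart -/
theorem exists_pow_mul (α : Fin (N + 1)) (w : Γ(Y G, ychart G α)) (c : (Y G).functionField)
    (h : ∀ x ∈ ychart G α, UnitAt x (ff (ychart G α) (generic_mem G hdom hx α) w) → RegAt x c) :
    ∃ (n : ℕ) (b : Γ(Y G, ychart G α)), ff (ychart G α) (generic_mem G hdom hx α) b =
      ff (ychart G α) (generic_mem G hdom hx α) w ^ n * c :=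
  exists_pow_mul' (isAffineOpen_ychart G α) _ w c h

variable (Q : Type u) [Field Q] [Algebra (A (eqn G)) Q] [IsFractionRing (A (eqn G)) Q]

/-- the twists -/
theorem hasCoc_twist (Φ : (Y G).functionField →+* Q)
    (hΦ : ∀ α (P : MvPolynomial (Fin N) K), Φ (ff (ychart G α) (generic_mem G hdom hx α) (toY G α P)) = evx G Q α P)
    (e : ℤ) : ∃ t : Y G → (Y G).functionField, (∀ x, ∃ α, x ∈ ychart G α ∧ Φ (t x) = (xx G Q α / xx G Q 0) ^ e) ∧
    HasCoc ((Scheme.Modules.pullback (ciIdeal G).subschemeι).obj (Twist.twistProjSpace N K e)) t := by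
  obtain ⟨g, hg, hrel⟩ := Groth.Agent.Lefpen.H121.CurveForm.exists_gens_pullback G e
  have hcov : ∀ x : Y G, ∃ α, x ∈ ychart G α := fun x => by
    have hy : x ∈ ⨆ j : Fin (N + 1), ychart G j := by
      rw [Groth.Agent.Lefpen.H708.Geo.iSup_preimage_chart (yι G)]; trivial
    exact Opens.mem_iSup.1 hy
  choose α hα using hcov
  have hη := generic_mem G hdom hx
  have hxx := xx_ne_zero G hx Q
  let τ : Fin (N + 1) → (Y G).functionField := fun i => ff (ychart G 0) (hη 0) (fn G 0 (X i)) ^ e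
  have hτ : ∀ i, Φ (τ i) = (xx G Q i / xx G Q 0) ^ e := fun i => by
    rw [map_zpow₀, phi_fn_X G hdom hx Q Φ hΦ]
  suffices key : ∀ i j, ∃ (γ : Γ(Y G, ychart G i ⊓ ychart G j))
      (hγ : genericPoint (Y G) ∈ ychart G i ⊓ ychart G j),
      res _ (inf_le_left : ychart G i ⊓ ychart G j ≤ _) (g i) =
        γ • res _ (inf_le_right : ychart G i ⊓ ychart G j ≤ _) (g j) ∧
      τ i = ff (ychart G i ⊓ ychart G j) hγ γ * τ j by
    refine ⟨fun x => τ (α x), fun x => ⟨α x, hα x, hτ _⟩, fun x => ?_, fun x => ychart G (α x), hα,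
      fun x => g (α x), fun x => hg _, fun x y => key (α x) (α y)⟩
    intro h0
    have h1 := congrArg Φ h0
    rw [hτ, map_zero] at h1
    exact zpow_ne_zero e (div_ne_zero (hxx _) (hxx _)) h1
  intro i j
  let c : (Γ(Y G, ychart G i ⊓ ychart G j))ˣ := (isUnit_ores_fn G i j).unit
  have hc : (c : Γ(Y G, ychart G i ⊓ ychart G j)) =
    ores (inf_le_left : ychart G i ⊓ ychart G j ≤ _) (fn G i (X j)) := rfl
  have hη' : genericPoint (Y G) ∈ ychart G i ⊓ ychart G j := ⟨hη i, hη j⟩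
  have hr := hrel i j
  rw [← hc] at hr
  refine ⟨((c ^ (-e) : (Γ(Y G, ychart G i ⊓ ychart G j))ˣ) : Γ(Y G, ychart G i ⊓ ychart G j)), hη', ?_, ?_⟩
  · have h1 : ((c ^ (-(e.toNat : ℤ)) : (Γ(Y G, ychart G i ⊓ ychart G j))ˣ) : Γ(Y G, ychart G i ⊓ ychart G j)) *
        (c : Γ(Y G, ychart G i ⊓ ychart G j)) ^ e.toNat = 1 := by
      rw [← Units.val_pow_eq_pow_val, ← Units.val_mul, ← zpow_natCast, ← zpow_add, neg_add_cancel, zpow_zero,
        Units.val_one]
    have h2 : ((c ^ (-(e.toNat : ℤ)) : (Γ(Y G, ychart G i ⊓ ychart G j))ˣ) : Γ(Y G, ychart G i ⊓ ychart G j)) *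
        (c : Γ(Y G, ychart G i ⊓ ychart G j)) ^ (-e).toNat =
        ((c ^ (-e) : (Γ(Y G, ychart G i ⊓ ychart G j))ˣ) : Γ(Y G, ychart G i ⊓ ychart G j)) := by
      rw [← Units.val_pow_eq_pow_val, ← Units.val_mul, ← zpow_natCast, ← zpow_add]
      congr 2
      omega
    have h3 := congrArg (fun m => ((c ^ (-(e.toNat : ℤ)) : (Γ(Y G, ychart G i ⊓ ychart G j))ˣ) :
      Γ(Y G, ychart G i ⊓ ychart G j)) • m) hr
    simp only [smul_smul] at h3
    rw [h1, h2, one_smul] at h3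
    exact h3
  · apply Φ.injective
    rw [map_mul, hτ, hτ]
    have h4 : ff (ychart G i ⊓ ychart G j) hη'
        ((c ^ (-e) : (Γ(Y G, ychart G i ⊓ ychart G j))ˣ) : Γ(Y G, ychart G i ⊓ ychart G j)) =
        (ff (ychart G i ⊓ ychart G j) hη' (c : Γ(Y G, ychart G i ⊓ ychart G j))) ^ (-e) := by
      have h5 := map_zpow (Units.map (ff (ychart G i ⊓ ychart G j) hη').toMonoidHom) c (-e)
      have h6 := congrArg Units.val h5
      rw [Units.val_zpow_eq_zpow_val] at h6
      exact h6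
    rw [h4, map_zpow₀, hc, ff_ores, phi_fn_X G hdom hx Q Φ hΦ, zpow_neg, ← inv_zpow, inv_div, ← mul_zpow,
      div_mul_div_cancel₀ (hxx j)]

end Groth.Agent.Lefpen.H61.T4Coc
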