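import Groth.Agent.Lefpen.H61.T4Coc

/-!
# Dictionary between `Y = V(G) ⊆ P^N` and the homogeneous fractions of its cone, part 3

* `isIntegral_Y`: a smooth complete intersection of dimension `≥ 1` is integral.
* `unitAt_of_pow`: `Y` is normal (roots of rational functions that are units at a point).
-/

set_option autoImplicit false
universe u
open CategoryTheory CategoryTheory.Limits AlgebraicGeometry TopologicalSpace Opposite MvPolynomial
open LefPen

namespace Groth.Agent.Lefpen.H61.T4Int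

open Groth.Agent.Lefpen.H718.Reg Groth.Agent.Lefpen.H718.ConeCM Groth.Agent.Lefpen.H718.Grade
open Groth.Agent.Lefpen.H718.Chart Groth.Agent.Lefpen.H725.CocDef
open Groth.Agent.Lefpen.H121.ChartLift Groth.Agent.Fdesc.LocGen Groth.Agent.Sga5
open Groth.Agent.Lefpen.H61.T4Phi

section charts

variable {X : Scheme.{u}} {ι : Type} (U : ι → X.Opens) (hU : ∀ i, IsAffineOpen (U i))
  (hdom : ∀ i, (U i : Set X).Nonempty → IsDomain Γ(X, U i))

include hU hdom

theorem isIntegral_toScheme (i : ι) (hi : (U i : Set X).Nonempty) : IsIntegral (U i).toScheme := by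
  have h1 : IsAffine (U i).toScheme := hU i
  have h2 : Nonempty (U i).toScheme := ⟨⟨_, hi.some_mem⟩⟩
  have h3 := hdom i hi
  have h4 : IsDomain Γ((U i).toScheme, ⊤) :=
    (U i).topIso.commRingCatIsoToRingEquiv.toMulEquiv.isDomain _
  exact isIntegral_of_isAffine_of_isDomain _

/-- A scheme covered by integral affine opens meeting pairwise is integral. -/
theorem isIntegral_of_charts (hcov : ⨆ i, U i = ⊤) (i₀ : ι) (hi₀ : (U i₀ : Set X).Nonempty)
    (hmeet : ∀ i j, (U i : Set X).Nonempty → (U j : Set X).Nonempty → ((U i ⊓ U j : X.Opens) : Set X).Nonempty) :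
    IsIntegral X := by
  have hirr : ∀ i, (U i : Set X).Nonempty → IsPreirreducible (U i : Set X) := fun i hi => by
    have h1 := isIntegral_toScheme U hU hdom i hi
    have h2 : PreirreducibleSpace (U i : Set X) :=
      (inferInstance : PreirreducibleSpace (U i).toScheme)
    exact IsPreirreducible.of_subtype
  have hmem : ∀ x : X, ∃ i, x ∈ U i := fun x => by
    have hy : x ∈ ⨆ j, U j := by rw [hcov]; trivial
    exact Opens.mem_iSup.1 hy
  have hred : IsReduced X := by
    have h1 : ∀ x : X, _root_.IsReduced (X.presheaf.stalk x) := fun x => by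
      obtain ⟨i, hi⟩ := hmem x
      have h2 := isIntegral_toScheme U hU hdom i ⟨x, hi⟩
      have e := (Scheme.Opens.stalkIso (U i) ⟨x, hi⟩).commRingCatIsoToRingEquiv
      exact isReduced_of_injective e.symm e.symm.injective
    exact isReduced_of_isReduced_stalk X
  have hpre : PreirreducibleSpace X := by
    refine PreirreducibleSpace.of_forall_nonempty_inter fun V W hV hW hVne hWne => ?_
    obtain ⟨x, hx⟩ := hVne
    obtain ⟨y, hy⟩ := hWne
    obtain ⟨i, hi⟩ := hmem x
    obtain ⟨j, hj⟩ := hmem y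
    -- `V` meets `U i ∩ U j`, and then `W` does inside `U j`
    have h1 := hirr i ⟨x, hi⟩ V (U i ⊓ U j : X.Opens) hV (U i ⊓ U j).isOpen ⟨x, hi, hx⟩
      (by
        obtain ⟨z, hz⟩ := hmeet i j ⟨x, hi⟩ ⟨y, hj⟩
        exact ⟨z, hz.1, hz⟩)
    obtain ⟨z, -, hzV, hz⟩ := h1
    obtain ⟨t, -, ht, htW⟩ := hirr j ⟨y, hj⟩ (V ∩ (U j : Set X)) W (hV.inter (U j).isOpen) hW
      ⟨z, hz.2, hzV, hz.2⟩ ⟨y, hj, hy⟩
    exact ⟨t, ht.1, htW⟩
  have hI : IrreducibleSpace X := { hpre with toNonempty := ⟨hi₀.some⟩ }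
  exact isIntegral_of_irreducibleSpace_of_isReduced X

end charts

variable {K : Type u} [Field K] {N d : ℕ} {a : Fin d → ℕ} (G : ∀ j : Fin d, Form N K (a j))

theorem isDomain_chart (hdom : IsDomain (A (eqn G))) (α : Fin (N + 1)) (hx : mk (eqn G) (X α) ≠ 0) :
    IsDomain Γ(Y G, ychart G α) := by
  have hnt := chart_nonempty G hdom α hx
  have hnz : NoZeroDivisors Γ(Y G, ychart G α) := by
    refine ⟨fun {s t} hst => ?_⟩
    obtain ⟨p, rfl⟩ := toY_surjective G α s
    obtain ⟨q, rfl⟩ := toY_surjective G α t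
    obtain ⟨M₁, h1⟩ := exists_homogenization α p
    obtain ⟨M₂, h2⟩ := exists_homogenization α q
    obtain ⟨P, hP, rfl⟩ := h1 _ le_rfl
    obtain ⟨R, hR, rfl⟩ := h2 _ le_rfl
    rw [← map_mul, ← map_mul, ← RingHom.mem_ker, ker_toY] at hst
    obtain ⟨m, hm⟩ := exists_pow_mul_mem (fun l => (G l).1) a (fun l => (G l).2) α (hP.mul hR) hst
    have h3 : mk (eqn G) (X α ^ m * (P * R)) = 0 := Ideal.Quotient.eq_zero_iff_mem.2 hm
    rw [map_mul, map_pow, map_mul] at h3
    rcases mul_eq_zero.1 ((mul_eq_zero.1 h3).resolve_left (pow_ne_zero _ hx)) with h | h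
    · exact Or.inl (fn_eq_zero G α (Ideal.Quotient.eq_zero_iff_mem.1 h))
    · exact Or.inr (fn_eq_zero G α (Ideal.Quotient.eq_zero_iff_mem.1 h))
  exact NoZeroDivisors.to_isDomain _

theorem mk_ne_zero_of_nonempty (α : Fin (N + 1)) (h : (ychart G α : Set (Y G)).Nonempty) :
    mk (eqn G) (X α) ≠ 0 := by
  intro h0
  have h1 := fn_eq_zero G α (Ideal.Quotient.eq_zero_iff_mem.1 h0)
  rw [fn_X_self] at h1
  have h2 : Nonempty (ychart G α) := ⟨⟨_, h.some_mem⟩⟩
  exact one_ne_zero h1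

theorem fn_ne_zero (hdom : IsDomain (A (eqn G))) (α : Fin (N + 1)) (hx : mk (eqn G) (X α) ≠ 0) {D : ℕ}
    {F : MvPolynomial (Fin (N + 1)) K} (hF : F.IsHomogeneous D) (hF0 : mk (eqn G) F ≠ 0) : fn G α F ≠ 0 := by
  intro h
  have h1 : ProjChart.dehom N K α F ∈ RingHom.ker (toY G α) := h
  rw [ker_toY] at h1
  obtain ⟨m, hm⟩ := exists_pow_mul_mem (fun l => (G l).1) a (fun l => (G l).2) α hF h1
  have h3 : mk (eqn G) (X α ^ m * F) = 0 := Ideal.Quotient.eq_zero_iff_mem.2 hm
  rw [map_mul, map_pow] at h3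
  exact hF0 ((mul_eq_zero.1 h3).resolve_left (pow_ne_zero _ hx))

theorem nonempty_of_nontrivial {X : Scheme.{u}} {U : X.Opens} (h : Nontrivial Γ(X, U)) : (U : Set X).Nonempty := by
  by_contra hn
  have h3 : U = ⊥ := by
    rw [← Opens.coe_inj, Opens.coe_bot]
    exact Set.not_nonempty_iff_eq_empty.1 hn
  have h4 : Subsingleton Γ(X, U) := by
    rw [h3]
    infer_instance
  exact not_subsingleton _ h4

/-- `Y` is integral if the cone ring is a domain and some coordinate is nonzero. -/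
theorem isIntegral_of_isDomain (hdom : IsDomain (A (eqn G))) (α₀ : Fin (N + 1))
    (hx : mk (eqn G) (X α₀) ≠ 0) : IsIntegral (Y G) := by
  refine isIntegral_of_charts (ychart G) (isAffineOpen_ychart G)
    (fun i hi => isDomain_chart G hdom i (mk_ne_zero_of_nonempty G i hi))
    (Groth.Agent.Lefpen.H708.Geo.iSup_preimage_chart (yι G)) α₀
    (nonempty_of_nontrivial (chart_nonempty G hdom α₀ hx)) (fun i j hi hj => ?_)
  have h1 := isDomain_chart G hdom i (mk_ne_zero_of_nonempty G i hi)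
  have h2 := fn_ne_zero G hdom i (mk_ne_zero_of_nonempty G i hi) (isHomogeneous_X K j)
    (mk_ne_zero_of_nonempty G j hj)
  by_contra hn
  have h3 : (Y G).basicOpen (fn G i (X j)) = ⊥ := by
    rw [← inf_eq_basicOpen, ← Opens.coe_inj, Opens.coe_bot]
    exact Set.not_nonempty_iff_eq_empty.1 hn
  have h4 : Subsingleton Γ(Y G, (Y G).basicOpen (fn G i (X j))) := by
    rw [h3]
    infer_instance
  obtain ⟨n, hn⟩ := exists_pow_mul_eq_zero_of_res_basicOpen_eq_zero_of_isAffineOpen (Y G)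
    (isAffineOpen_ychart G i) 1 (fn G i (X j)) (Subsingleton.elim _ _)
  rw [mul_one] at hn
  exact pow_ne_zero n h2 hn

/-- a smooth complete intersection of dimension `≥ 1` is integral -/
theorem isIntegral_Y (ha : ∀ j, 1 ≤ a j) (hJ : JacCond (eqn G)) {n : ℕ} (hN : N = n + d) (hn : 1 ≤ n) :
    IsIntegral (Y G) := by
  have hh : ∀ i, (eqn G i).IsHomogeneous (a i) := fun i => (G i).2
  have hg : ∀ i, constantCoeff (eqn G i) = 0 := fun i => by
    rw [constantCoeff_eq]
    by_contra h0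
    have h1 := hh i h0
    rw [map_zero] at h1
    have := ha i
    omega
  have hdom := isDomain (eqn G) hh hg hJ hN hn
  obtain ⟨α₀, hα₀⟩ : ∃ α, mk (eqn G) (X α) ≠ 0 := by
    by_contra hcon
    push Not at hcon
    have h1 : irr (eqn G) = ⊥ := by
      rw [irr, Ideal.map_span, Ideal.span_eq_bot]
      rintro _ ⟨_, ⟨j, rfl⟩, rfl⟩
      exact hcon j
    have h2 := height_irr (eqn G) hg hJ hN
    rw [h1, Ideal.height_bot] at h2
    have : (0 : ℕ) = n + 1 := by exact_mod_cast h2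
    omega
  exact isIntegral_of_isDomain G hdom α₀ hα₀

variable [IsIntegral (Y G)] (hdom : IsDomain (A (eqn G))) (hx : ∀ i, mk (eqn G) (X i) ≠ 0)

include hx hdom in
/-- A rational function with a power in a chart ring is in the chart ring. -/
theorem exists_of_pow_chart (hint : IsIntegrallyClosed (A (eqn G))) (α : Fin (N + 1)) (z : (Y G).functionField)
    (n : ℕ) (hn : 0 < n) (s : Γ(Y G, ychart G α)) (h : z ^ n = ff (ychart G α) (generic_mem G hdom hx α) s) :
    ∃ t : Γ(Y G, ychart G α), ff (ychart G α) (generic_mem G hdom hx α) t = z := by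
  let Q := FractionRing (A (eqn G))
  have hh : ∀ i, (eqn G i).IsHomogeneous (a i) := fun i => (G i).2
  obtain ⟨Φ, hΦ, hΦr⟩ := exists_phi G hdom hx Q
  obtain ⟨D, P, R, hP, hR, hR0, hz⟩ := (hΦr (Φ z)).1 ⟨z, rfl⟩
  obtain ⟨p, rfl⟩ := toY_surjective G α s
  obtain ⟨M₀, hM₀⟩ := exists_homogenization α p
  obtain ⟨F, hF, rfl⟩ := hM₀ (M₀ * n) (Nat.le_mul_of_pos_right _ hn)
  have hxα := xx_ne_zero G hx Q α
  have h1 : Φ z ^ n = vv G Q F / xx G Q α ^ (M₀ * n) := by
    rw [← map_pow, h]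
    exact phi_fn G hdom hx Q Φ hΦ α hF
  have h2 : (xx G Q α ^ M₀ * Φ z) ^ n = algebraMap (A (eqn G)) Q (mk (eqn G) F) := by
    rw [mul_pow, h1, ← pow_mul, mul_div_cancel₀ _ (pow_ne_zero _ hxα)]
    rfl
  obtain ⟨y, hy⟩ := IsIntegrallyClosed.exists_algebraMap_eq_of_isIntegral_pow (R := A (eqn G)) (K := Q) hn
    (by rw [h2]; exact isIntegral_algebraMap)
  -- the component of `y` of degree `M₀`
  have h3 : y * mk (eqn G) R = mk (eqn G) (X α) ^ M₀ * mk (eqn G) P := by
    apply IsFractionRing.injective (A (eqn G)) Q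
    have hR0' : algebraMap (A (eqn G)) Q (mk (eqn G) R) ≠ 0 := by
      rw [Ne, map_eq_zero_iff _ (IsFractionRing.injective (A (eqn G)) Q)]
      exact hR0
    rw [map_mul, hy, hz, map_mul, map_pow, mul_assoc, div_mul_cancel₀ _ hR0']
    rfl
  have h4 : (delta (eqn G) hh y).coeff M₀ * mk (eqn G) R = mk (eqn G) (X α) ^ M₀ * mk (eqn G) P := by
    have h5 := congrArg (fun w => (delta (eqn G) hh w).coeff (M₀ + D)) h3
    simp only [map_mul, map_pow] at h5
    have e1 := homog_mk (eqn G) hh hR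
    have e2 := homog_mk (eqn G) hh hP
    have e3 := homog_mk (eqn G) hh (isHomogeneous_X K α)
    rw [Homog] at e1 e2 e3
    rw [e1, e2, e3, ← mul_assoc, Polynomial.coeff_mul_X_pow, Polynomial.coeff_mul_C, pow_one, aux_pow',
      show (Polynomial.C (mk (eqn G) (X α) ^ M₀) * Polynomial.X ^ M₀ *
        (Polynomial.C (mk (eqn G) P) * Polynomial.X ^ D) : Polynomial (A (eqn G))) =
        Polynomial.C (mk (eqn G) (X α) ^ M₀ * mk (eqn G) P) * Polynomial.X ^ (M₀ + D) by
        rw [map_mul, pow_add]; ring, Polynomial.coeff_C_mul, Polynomial.coeff_X_pow_self, mul_one] at h5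
    exact h5
  have h6 : y = (delta (eqn G) hh y).coeff M₀ := by
    rw [← h4] at h3
    exact mul_right_cancel₀ hR0 h3
  obtain ⟨T, hT, hT'⟩ := exists_lift_coeff (eqn G) hh y M₀
  rw [← h6] at hT'
  refine ⟨fn G α T, Φ.injective ?_⟩
  rw [phi_fn G hdom hx Q Φ hΦ α hT, div_eq_iff (pow_ne_zero _ hxα), mul_comm, ← hy, ← hT']
  rfl

include hx hdom in
/-- normality -/
theorem unitAt_of_pow (hint : IsIntegrallyClosed (A (eqn G))) (x : Y G) (u : (Y G).functionField) (n : ℕ) (hn : 0 < n)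
    (h : UnitAt x (u ^ n)) : UnitAt x u := by
  have hy : x ∈ ⨆ j : Fin (N + 1), ychart G j := by
    rw [Groth.Agent.Lefpen.H708.Geo.iSup_preimage_chart (yι G)]; trivial
  obtain ⟨α, hα⟩ := Opens.mem_iSup.1 hy
  obtain ⟨U, hxU, hηU, g, hg, hgu⟩ := id h
  obtain ⟨w, hwU, hxw⟩ := (isAffineOpen_ychart G α).exists_basicOpen_le ⟨x, hxU⟩ hα
  have hη := generic_mem G hdom hx α
  obtain ⟨m, b, hb⟩ := T4Coc.exists_pow_mul G hdom hx α w (u ^ n) (fun y hy hyw =>
    ⟨U, hwU ((unitAt_ff_iff hη w hy).1 hyw), hηU, g, hgu⟩)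
  obtain ⟨t, ht⟩ := exists_of_pow_chart G hdom hx hint α (ff (ychart G α) hη w ^ m * u) n hn
    (w ^ (m * (n - 1)) * b) (by
      rw [map_mul, map_pow, hb, mul_pow, ← pow_mul, ← mul_assoc, ← pow_add]
      congr 2
      obtain ⟨n, rfl⟩ : ∃ n', n = n' + 1 := ⟨n - 1, by omega⟩
      simp only [Nat.add_sub_cancel]
      ring)
  have hηw : genericPoint (Y G) ∈ (Y G).basicOpen w := generic_mem_of hxw
  have hw0 : ff (ychart G α) hη w ≠ 0 := UnitAt.ne_zero ((unitAt_ff_iff hη w hα).2 hxw)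
  -- `u` as a function on the basic open
  have hwu : IsUnit (ores ((Y G).basicOpen_le w) w) := RingedSpace.isUnit_res_basicOpen (Y G).toRingedSpace w
  obtain ⟨v, hv⟩ := (hwu.pow m).exists_right_inv
  have h1 : ff ((Y G).basicOpen w) hηw (ores ((Y G).basicOpen_le w) t * v) = u := by
    have h2 := congrArg (ff ((Y G).basicOpen w) hηw) hv
    rw [map_mul, map_pow, map_one, ff_ores] at h2
    rw [map_mul, ff_ores, ht, mul_right_comm, h2, one_mul]
  rw [← h1, unitAt_ff_iff _ _ hxw]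
  rw [← h1, ← map_pow, unitAt_ff_iff _ _ hxw, Scheme.basicOpen_pow _ _ hn] at h
  exact h

end Groth.Agent.Lefpen.H61.T4Int
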