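import Groth.Agent.Lefpen.H718.Chart
import Groth.Agent.Lefpen.H718.Jac
import Groth.Agent.Lefpen.H718.Grade
import Groth.Agent.Lefpen.H725.CocDef
import Groth.Agent.Lefpen.H121.ChartLift

/-!
# Dictionary between `Y = V(G) ⊆ P^N` and the homogeneous fractions of its cone, part 1

`Y` integral, `A = K[T_0..T_N]/(G)` a domain in which no `T_i` vanishes, `Q = Frac A`.

* `generic_mem`: the generic point lies in every chart.
* `exists_phi`: the embedding `Φ : K(Y) → Q`, `T_l/T_α ↦ T_l/T_α`, with image the homogeneous fractions of degree 0.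
* `phi_fn`: `Φ` of the function `F/T_α^D`.
* `mem_chart_iff`: a point of the chart `α` is in the chart `β` iff `T_β/T_α` is a unit there.
-/

set_option autoImplicit false
universe u
open CategoryTheory CategoryTheory.Limits AlgebraicGeometry TopologicalSpace Opposite MvPolynomial
open LefPen

namespace Groth.Agent.Lefpen.H61.T4Phi

open Groth.Agent.Lefpen.H718.Reg Groth.Agent.Lefpen.H718.ConeCM Groth.Agent.Lefpen.H718.Grade
open Groth.Agent.Lefpen.H718.Chart Groth.Agent.Lefpen.H725.CocDef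
open Groth.Agent.Lefpen.H121.ChartLift Groth.Agent.Fdesc.LocGen Groth.Agent.Sga5

section ff

variable {X : Scheme.{u}} [IsIntegral X]

theorem ff_ores {U V : X.Opens} (h : V ≤ U) (hV : genericPoint X ∈ V) (s : Γ(X, U)) :
    ff V hV (ores h s) = ff U (h hV) s :=
  X.presheaf.germ_res_apply (homOfLE h) _ hV s

theorem ff_injective (U : X.Opens) (h : genericPoint X ∈ U) : Function.Injective (ff U h) :=
  germ_injective_of_isIntegral X _ h

theorem generic_mem_of {U : X.Opens} {x : X} (hx : x ∈ U) : genericPoint X ∈ U :=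
  ((genericPoint_spec X).mem_open_set_iff U.isOpen).2 ⟨x, trivial, hx⟩

/-- Two functions with the same germ at the generic point agree on the intersection. -/
theorem ores_eq_of_ff {U V : X.Opens} (hU : genericPoint X ∈ U) (hV : genericPoint X ∈ V) {s : Γ(X, U)} {t : Γ(X, V)}
    (h : ff U hU s = ff V hV t) :
    ores (inf_le_left : U ⊓ V ≤ U) s = ores (inf_le_right : U ⊓ V ≤ V) t := by
  apply ff_injective (U ⊓ V) ⟨hU, hV⟩
  rw [ff_ores, ff_ores, h]

omit [IsIntegral X] in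
theorem mem_basicOpen_of_isUnit {U V : X.Opens} (h : V ≤ U) {s : Γ(X, U)} (hs : IsUnit (ores h s)) :
    V ≤ X.basicOpen s := by
  have h1 : X.basicOpen (ores h s) = V ⊓ X.basicOpen s := X.basicOpen_res s (homOfLE h).op
  rw [X.basicOpen_of_isUnit hs] at h1
  rw [h1]
  exact inf_le_right

/-- `ff U g` is a unit at `x ∈ U` iff `x` is in the basic open of `g`. -/
theorem unitAt_ff_iff {U : X.Opens} (hU : genericPoint X ∈ U) (s : Γ(X, U)) {x : X} (hx : x ∈ U) :
    UnitAt x (ff U hU s) ↔ x ∈ X.basicOpen s := by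
  constructor
  · rintro ⟨V, hxV, hV, g, hg, h⟩
    have h1 := ores_eq_of_ff hV hU h
    have h2 : IsUnit (ores (inf_le_right : V ⊓ U ≤ U) s) := by
      rw [← h1]
      exact hg.map _
    exact mem_basicOpen_of_isUnit _ h2 ⟨hxV, hx⟩
  · intro h
    refine ⟨X.basicOpen s, h, generic_mem_of h, ores (X.basicOpen_le s) s, ?_, ff_ores _ _ _⟩
    exact RingedSpace.isUnit_res_basicOpen X.toRingedSpace s

theorem UnitAt.ne_zero {x : X} {u : X.functionField} (h : UnitAt x u) : u ≠ 0 := by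
  obtain ⟨U, hx, hU, g, hg, rfl⟩ := h
  exact (hg.map (ff U hU)).ne_zero

end ff

variable {K : Type u} [Field K] {N d : ℕ} {a : Fin d → ℕ} (G : ∀ j : Fin d, Form N K (a j))

/-- the equations -/
abbrev eqn (j : Fin d) : MvPolynomial (Fin (N + 1)) K := (G j).1

theorem chart_nonempty (hdom : IsDomain (A (eqn G))) (α : Fin (N + 1)) (hx : mk (eqn G) (X α) ≠ 0) :
    Nontrivial Γ(Y G, ychart G α) := by
  by_contra hn
  rw [not_nontrivial_iff_subsingleton] at hn
  have h1 : (1 : MvPolynomial (Fin N) K) ∈ RingHom.ker (toY G α) := Subsingleton.elim _ _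
  rw [ker_toY, ← map_one (ProjChart.dehom N K α)] at h1
  obtain ⟨R, hR⟩ := exists_pow_mul_mem (fun l => (G l).1) a (fun l => (G l).2) α
    (isHomogeneous_one (Fin (N + 1)) K) h1
  rw [mul_one] at hR
  have h2 : mk (eqn G) (X α ^ R) = 0 := Ideal.Quotient.eq_zero_iff_mem.2 hR
  rw [map_pow] at h2
  exact pow_ne_zero R hx h2

variable [IsIntegral (Y G)]

theorem generic_mem (hdom : IsDomain (A (eqn G))) (hx : ∀ i, mk (eqn G) (X i) ≠ 0) (α : Fin (N + 1)) :
    genericPoint (Y G) ∈ ychart G α := by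
  have h1 := chart_nonempty G hdom α (hx α)
  have h2 : Nonempty (ychart G α) := by
    by_contra hn
    have h3 : ychart G α = ⊥ := by
      rw [← Opens.coe_inj, Opens.coe_bot, Set.eq_empty_iff_forall_notMem]
      exact fun x hx => hn ⟨⟨x, hx⟩⟩
    have h4 : Subsingleton Γ(Y G, ychart G α) := by
      rw [h3]
      infer_instance
    exact not_subsingleton _ h4
  obtain ⟨⟨x, hx⟩⟩ := h2
  exact generic_mem_of hx

variable (hdom : IsDomain (A (eqn G))) (hx : ∀ i, mk (eqn G) (X i) ≠ 0)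
  (Q : Type u) [Field Q] [Algebra (A (eqn G)) Q] [IsFractionRing (A (eqn G)) Q]

/-- the homogeneous coordinates in `Q` -/
noncomputable def xx (i : Fin (N + 1)) : Q := algebraMap (A (eqn G)) Q (mk (eqn G) (X i))

/-- evaluation of a polynomial in the affine coordinates -/
noncomputable def evx (α : Fin (N + 1)) : MvPolynomial (Fin N) K →+* Q :=
  eval₂Hom ((algebraMap (A (eqn G)) Q).comp ((mk (eqn G)).comp C)) (fun l => xx G Q (α.succAbove l) / xx G Q α)

/-- polynomials as elements of `Q` -/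
noncomputable def vv : MvPolynomial (Fin (N + 1)) K →+* Q := (algebraMap (A (eqn G)) Q).comp (mk (eqn G))

omit [IsIntegral (Y G)] [IsFractionRing (A (eqn G)) Q] in
theorem vv_X (i : Fin (N + 1)) : vv G Q (X i) = xx G Q i := rfl

omit [IsIntegral (Y G)] in
theorem vv_eq_zero_iff (P : MvPolynomial (Fin (N + 1)) K) : vv G Q P = 0 ↔ mk (eqn G) P = 0 := by
  rw [vv, RingHom.comp_apply, map_eq_zero_iff _ (IsFractionRing.injective (A (eqn G)) Q)]

omit [IsIntegral (Y G)] in
include hx in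
theorem xx_ne_zero (i : Fin (N + 1)) : xx G Q i ≠ 0 := by
  rw [← vv_X, Ne, vv_eq_zero_iff]
  exact hx i

omit [IsIntegral (Y G)] in
include hx in
theorem vv_homog (α : Fin (N + 1)) {D : ℕ} {P : MvPolynomial (Fin (N + 1)) K} (hP : P.IsHomogeneous D) :
    vv G Q P = xx G Q α ^ D * evx G Q α (ProjChart.dehom N K α P) :=
  Groth.Agent.Lefpen.H718.Jac.eval_eq (vv G Q) α (xx_ne_zero G hx Q α) D P hP

omit [IsIntegral (Y G)] in
include hx in
theorem evx_dehom (α : Fin (N + 1)) {D : ℕ} {P : MvPolynomial (Fin (N + 1)) K} (hP : P.IsHomogeneous D) :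
    evx G Q α (ProjChart.dehom N K α P) = vv G Q P / xx G Q α ^ D := by
  rw [vv_homog G hx Q α hP, mul_div_cancel_left₀ _ (pow_ne_zero _ (xx_ne_zero G hx Q α))]

omit [IsIntegral (Y G)] in
include hx in
theorem evx_eq_zero_iff (α : Fin (N + 1)) (P : MvPolynomial (Fin N) K) : evx G Q α P = 0 ↔ toY G α P = 0 := by
  constructor
  · intro h
    obtain ⟨M, hM⟩ := exists_homogenization α P
    obtain ⟨F, hF, rfl⟩ := hM M le_rfl
    have h1 := vv_homog G hx Q α hF
    rw [h, mul_zero, vv_eq_zero_iff] at h1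
    exact fn_eq_zero G α (Ideal.Quotient.eq_zero_iff_mem.1 h1)
  · intro h
    rw [← RingHom.mem_ker, ker_toY] at h
    have h1 : Ideal.span (Set.range fun i => ProjChart.dehom N K α (G i).1) ≤ RingHom.ker (evx G Q α) := by
      rw [Ideal.span_le]
      rintro _ ⟨i, rfl⟩
      change evx G Q α (ProjChart.dehom N K α (G i).1) = 0
      rw [evx_dehom G hx Q α (G i).2]
      have h2 : vv G Q (G i).1 = 0 := by
        rw [vv_eq_zero_iff]
        exact Ideal.Quotient.eq_zero_iff_mem.2 (Ideal.subset_span ⟨i, rfl⟩)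
      rw [h2, zero_div]
    exact h1 h

/-- The chart rings in `Q`. -/
noncomputable def psi (α : Fin (N + 1)) : Γ(Y G, ychart G α) →+* Q :=
  RingHom.liftOfSurjective (toY G α) (toY_surjective G α)
    ⟨evx G Q α, fun P hP => (evx_eq_zero_iff G hx Q α P).2 hP⟩

omit [IsIntegral (Y G)] in
theorem psi_toY (α : Fin (N + 1)) (P : MvPolynomial (Fin N) K) : psi G hx Q α (toY G α P) = evx G Q α P :=
  RingHom.liftOfRightInverse_comp_apply (toY G α) _ _
    ⟨evx G Q α, fun P hP => (evx_eq_zero_iff G hx Q α P).2 hP⟩ P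

omit [IsIntegral (Y G)] in
theorem psi_injective (α : Fin (N + 1)) : Function.Injective (psi G hx Q α) := by
  rw [injective_iff_map_eq_zero]
  intro s hs
  obtain ⟨P, rfl⟩ := toY_surjective G α s
  rw [psi_toY, evx_eq_zero_iff G hx] at hs
  exact hs

/-- `Φ` on fractions `F / T_α^D`, from its values on the chart `0`. -/
theorem phi_fn_aux (Φ : (Y G).functionField →+* Q)
    (hΦ : ∀ (P : MvPolynomial (Fin N) K), Φ (ff (ychart G 0) (generic_mem G hdom hx 0) (toY G 0 P)) = evx G Q 0 P)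
    (α : Fin (N + 1)) {D : ℕ} {P : MvPolynomial (Fin (N + 1)) K} (hP : P.IsHomogeneous D) :
    Φ (ff (ychart G α) (generic_mem G hdom hx α) (fn G α P)) = vv G Q P / xx G Q α ^ D := by
  have h0 := generic_mem G hdom hx 0
  have hα := generic_mem G hdom hx α
  have h1 := congrArg (ff (ychart G 0 ⊓ ychart G α) ⟨h0, hα⟩) (ores_fn G 0 α hP)
  rw [map_mul, map_pow, ff_ores, ff_ores, ff_ores] at h1
  have h2 := congrArg Φ h1
  have h3 : ∀ F, Φ (ff (ychart G 0) h0 (fn G 0 F)) = evx G Q 0 (ProjChart.dehom N K 0 F) := fun F => hΦ _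
  rw [map_mul, map_pow, h3, h3, evx_dehom G hx Q 0 hP, evx_dehom G hx Q 0 (isHomogeneous_X K α), vv_X, pow_one] at h2
  have hx0 := xx_ne_zero G hx Q 0
  have hxα := xx_ne_zero G hx Q α
  rw [div_pow, div_mul_eq_mul_div, div_left_inj' (pow_ne_zero _ hx0)] at h2
  rw [h2, mul_div_cancel_left₀ _ (pow_ne_zero _ hxα)]

/-- The embedding of the function field. -/
theorem exists_phi : ∃ Φ : (Y G).functionField →+* Q,
    (∀ α (P : MvPolynomial (Fin N) K), Φ (ff (ychart G α) (generic_mem G hdom hx α) (toY G α P)) = evx G Q α P) ∧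
    (∀ y : Q, y ∈ Set.range Φ ↔ ∃ (D : ℕ) (P R : MvPolynomial (Fin (N + 1)) K), P.IsHomogeneous D ∧ R.IsHomogeneous D ∧
      mk (eqn G) R ≠ 0 ∧ y = algebraMap (A (eqn G)) Q (mk (eqn G) P) / algebraMap (A (eqn G)) Q (mk (eqn G) R)) := by
  have h0 := generic_mem G hdom hx 0
  have hne : Nonempty (ychart G 0) := ⟨⟨_, h0⟩⟩
  have hfr : IsFractionRing Γ(Y G, ychart G 0) (Y G).functionField :=
    functionField_isFractionRing_of_isAffineOpen (Y G) (ychart G 0) (isAffineOpen_ychart G 0)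
  let Φ : (Y G).functionField →+* Q := IsFractionRing.lift (psi_injective G hx Q 0)
  have hΦ0 : ∀ s : Γ(Y G, ychart G 0), Φ (ff (ychart G 0) h0 s) = psi G hx Q 0 s := fun s =>
    IsFractionRing.lift_algebraMap (psi_injective G hx Q 0) s
  have hΦ : ∀ P, Φ (ff (ychart G 0) h0 (toY G 0 P)) = evx G Q 0 P := fun P => by rw [hΦ0, psi_toY]
  refine ⟨Φ, fun α P => ?_, fun y => ⟨?_, ?_⟩⟩
  · obtain ⟨M, hM⟩ := exists_homogenization α P
    obtain ⟨F, hF, rfl⟩ := hM M le_rfl
    rw [evx_dehom G hx Q α hF]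
    exact phi_fn_aux G hdom hx Q Φ hΦ α hF
  · rintro ⟨f, rfl⟩
    obtain ⟨s, t, ht, rfl⟩ := IsFractionRing.div_surjective (A := Γ(Y G, ychart G 0)) f
    obtain ⟨p, rfl⟩ := toY_surjective G 0 s
    obtain ⟨q, rfl⟩ := toY_surjective G 0 t
    obtain ⟨M₁, h1⟩ := exists_homogenization 0 p
    obtain ⟨M₂, h2⟩ := exists_homogenization 0 q
    obtain ⟨P, hP, rfl⟩ := h1 (max M₁ M₂) (le_max_left _ _)
    obtain ⟨R, hR, rfl⟩ := h2 (max M₁ M₂) (le_max_right _ _)
    have hR0 : evx G Q 0 (ProjChart.dehom N K 0 R) ≠ 0 := by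
      rw [Ne, evx_eq_zero_iff G hx]
      exact nonZeroDivisors.ne_zero ht
    refine ⟨_, P, R, hP, hR, ?_, ?_⟩
    · rw [evx_dehom G hx Q 0 hR] at hR0
      intro h
      rw [← vv_eq_zero_iff G Q] at h
      exact hR0 (by rw [h, zero_div])
    · have e1 : ∀ s : Γ(Y G, ychart G 0), Φ (algebraMap Γ(Y G, ychart G 0) (Y G).functionField s) =
          psi G hx Q 0 s := hΦ0
      rw [map_div₀, e1, e1, psi_toY, psi_toY, evx_dehom G hx Q 0 hP, evx_dehom G hx Q 0 hR,
        div_div_div_cancel_right₀ (pow_ne_zero _ (xx_ne_zero G hx Q 0))]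
      rfl
  · rintro ⟨D, P, R, hP, hR, hR0, rfl⟩
    refine ⟨ff (ychart G 0) h0 (fn G 0 P) / ff (ychart G 0) h0 (fn G 0 R), ?_⟩
    rw [map_div₀, phi_fn_aux G hdom hx Q Φ hΦ 0 hP, phi_fn_aux G hdom hx Q Φ hΦ 0 hR,
      div_div_div_cancel_right₀ (pow_ne_zero _ (xx_ne_zero G hx Q 0))]
    rfl

section

variable (Φ : (Y G).functionField →+* Q)
    (hΦ : ∀ α (P : MvPolynomial (Fin N) K), Φ (ff (ychart G α) (generic_mem G hdom hx α) (toY G α P)) = evx G Q α P)

include hΦ

/-- `Φ` on fractions `F / T_α^D`. -/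
theorem phi_fn (α : Fin (N + 1)) {D : ℕ} {P : MvPolynomial (Fin (N + 1)) K} (hP : P.IsHomogeneous D) :
    Φ (ff (ychart G α) (generic_mem G hdom hx α) (fn G α P)) = vv G Q P / xx G Q α ^ D :=
  phi_fn_aux G hdom hx Q Φ (hΦ 0) α hP

theorem phi_fn_X (α β : Fin (N + 1)) :
    Φ (ff (ychart G α) (generic_mem G hdom hx α) (fn G α (X β))) = xx G Q β / xx G Q α := by
  rw [phi_fn G hdom hx Q Φ hΦ α (isHomogeneous_X K β), pow_one, vv_X]

/-- for `x` in the chart `α`: `x` is in the chart `β` iff `x_β / x_α` is a unit at `x` -/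
theorem mem_chart_iff (α β : Fin (N + 1)) (x : Y G) (hxα : x ∈ ychart G α) :
    x ∈ ychart G β ↔ ∃ u : (Y G).functionField, UnitAt x u ∧ Φ u = xx G Q β / xx G Q α := by
  constructor
  · intro hxβ
    have h1 : x ∈ (Y G).basicOpen (fn G α (X β)) := by
      rw [← inf_eq_basicOpen]
      exact ⟨hxα, hxβ⟩
    exact ⟨_, (unitAt_ff_iff (generic_mem G hdom hx α) _ hxα).2 h1, phi_fn_X G hdom hx Q Φ hΦ α β⟩
  · rintro ⟨u, hu, hΦu⟩
    rw [← phi_fn_X G hdom hx Q Φ hΦ α β] at hΦu
    rw [Φ.injective hΦu, unitAt_ff_iff _ _ hxα, ← inf_eq_basicOpen] at hu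
    exact hu.2

end

end Groth.Agent.Lefpen.H61.T4Phi
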